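import Groth.Agent.UnramMisc.FlatUnram
import Mathlib

/-!
# Étale extensions of composed valuation rings
-/

set_option autoImplicit false
set_option linter.style.haveILetI false
set_option backward.isDefEq.respectTransparency.types false

universe u

namespace Groth.Agent.ValComposed

variable {A B : Type u} [CommRing A] [IsDomain A] [ValuationRing A] [CommRing B] [IsDomain B] [IsLocalRing B]
  [Algebra A B] [IsLocalHom (algebraMap A B)]

/-- An extension composed from two étale extensions is étale. -/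
theorem etale_of_composed (hinj : Function.Injective (algebraMap A B)) (P : Ideal B) [P.IsPrime]
    (hdiv : ∀ s ∉ P, ∃ r ∉ P.comap (algebraMap A B), s ∣ algebraMap A B r)
    (hA : (Localization.localRingHom (P.comap (algebraMap A B)) P (algebraMap A B) rfl).Etale)
    (hB : (Ideal.quotientMap P (algebraMap A B) (le_refl (P.comap (algebraMap A B)))).Etale) :
    Algebra.Etale A B := by
  classical
  let p := P.comap (algebraMap A B)
  let Ap := Localization.AtPrime p
  let BP := Localization.AtPrime P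
  let φ := Localization.localRingHom p P (algebraMap A B) rfl
  letI : Algebra Ap BP := φ.toAlgebra
  haveI : IsScalarTower A Ap BP := IsScalarTower.of_algebraMap_eq fun a => by
    show algebraMap A BP a = φ (algebraMap A Ap a)
    rw [Localization.localRingHom_to_map, ← IsScalarTower.algebraMap_apply A B BP]
  haveI : IsLocalHom (algebraMap Ap BP) := Localization.isLocalHom_localRingHom p P (algebraMap A B) rfl
  haveI hAp : Algebra.Etale Ap BP := (RingHom.etale_algebraMap).1 hA
  let ψ := Ideal.quotientMap P (algebraMap A B) (le_refl p)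
  letI : Algebra (A ⧸ p) (B ⧸ P) := ψ.toAlgebra
  haveI : IsScalarTower A (A ⧸ p) (B ⧸ P) := IsScalarTower.of_algebraMap_eq fun a => by
    show algebraMap A (B ⧸ P) a = ψ (Ideal.Quotient.mk p a)
    rw [Ideal.quotientMap_mk]
    rfl
  haveI hBp : Algebra.Etale (A ⧸ p) (B ⧸ P) := (RingHom.etale_algebraMap).1 hB
  haveI : Algebra.FiniteType A (B ⧸ P) :=
    Algebra.FiniteType.trans (inferInstance : Algebra.FiniteType A (A ⧸ p)) inferInstance
  -- every element of the localization has a denominator from the base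
  have hden : ∀ y : BP, ∃ b : B, ∃ r ∉ p, y * algebraMap A BP r = algebraMap B BP b := fun y => by
    obtain ⟨⟨b, s⟩, h⟩ := IsLocalization.surj P.primeCompl y
    obtain ⟨r, hr, c, hc⟩ := hdiv (s : B) s.2
    refine ⟨b * c, r, hr, ?_⟩
    rw [IsScalarTower.algebraMap_apply A B BP, hc, map_mul, map_mul, ← mul_assoc, h]
  have hinjBP : Function.Injective (algebraMap B BP) :=
    IsLocalization.injective BP P.primeCompl_le_nonZeroDivisors
  obtain ⟨S₁, hS₁⟩ := (inferInstance : Algebra.FiniteType A (B ⧸ P)).out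
  obtain ⟨S₂, hS₂⟩ := (inferInstance : Algebra.FiniteType Ap BP).out
  choose b r hr hbr using hden
  let B₀ : Subalgebra A B := Algebra.adjoin A
    ((↑(S₁.image fun z => (Ideal.Quotient.mk_surjective z).choose) : Set B) ∪ ↑(S₂.image b))
  have hgen : ∀ y : BP, ∃ z ∈ B₀, ∃ c ∉ p, y * algebraMap A BP c = algebraMap B BP z := fun y => by
    have hy : y ∈ Algebra.adjoin Ap (S₂ : Set BP) := hS₂ ▸ Algebra.mem_top
    induction hy using Algebra.adjoin_induction with
    | mem x hx =>
      exact ⟨b x, Algebra.subset_adjoin (Or.inr (Finset.mem_image_of_mem b hx)), r x, hr x, hbr x⟩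
    | algebraMap a =>
      obtain ⟨⟨a, s⟩, h⟩ := IsLocalization.surj p.primeCompl a
      refine ⟨algebraMap A B a, B₀.algebraMap_mem a, s, s.2, ?_⟩
      have := congrArg (algebraMap Ap BP) h
      rw [map_mul, ← IsScalarTower.algebraMap_apply, ← IsScalarTower.algebraMap_apply] at this
      rw [this, IsScalarTower.algebraMap_apply A B BP]
    | add x y _ _ hx hy =>
      obtain ⟨z, hz, c, hc, h⟩ := hx
      obtain ⟨w, hw, d, hd, h'⟩ := hy
      refine ⟨z * algebraMap A B d + w * algebraMap A B c, add_mem (mul_mem hz (B₀.algebraMap_mem d))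
        (mul_mem hw (B₀.algebraMap_mem c)), c * d, fun hm => ((Ideal.IsPrime.comap _).mem_or_mem hm).elim hc hd, ?_⟩
      simp only [map_add, map_mul, ← h, ← h', ← IsScalarTower.algebraMap_apply]
      ring
    | mul x y _ _ hx hy =>
      obtain ⟨z, hz, c, hc, h⟩ := hx
      obtain ⟨w, hw, d, hd, h'⟩ := hy
      refine ⟨z * w, mul_mem hz hw, c * d, fun hm => ((Ideal.IsPrime.comap _).mem_or_mem hm).elim hc hd, ?_⟩
      simp only [map_mul, ← h, ← h']
      ring
  have hpdiv : ∀ a ∈ p, ∀ c ∉ p, ∃ a' ∈ p, a = c * a' := fun a ha c hc => by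
    rcases ValuationRing.dvd_total c a with ⟨a', ha'⟩ | ⟨c', hc'⟩
    · exact ⟨a', ((Ideal.IsPrime.comap (algebraMap A B)).mem_or_mem (ha' ▸ ha)).resolve_left hc, ha'⟩
    · exact absurd (hc' ▸ p.mul_mem_right c' ha) hc
  have hPmem : ∀ x ∈ P, x ∈ B₀ ∧ x ∈ p.map (algebraMap A B) := by
    intro x hx
    have hmax : (IsLocalRing.maximalIdeal Ap).map (algebraMap Ap BP) = IsLocalRing.maximalIdeal BP :=
      Algebra.FormallyUnramified.map_maximalIdeal
    rw [← IsLocalization.AtPrime.map_eq_maximalIdeal p Ap, Ideal.map_map, ← IsScalarTower.algebraMap_eq] at hmax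
    have hxm : algebraMap B BP x ∈ IsLocalRing.maximalIdeal BP :=
      (IsLocalization.AtPrime.to_map_mem_maximal_iff BP P x).2 hx
    rw [← hmax] at hxm
    suffices ∀ w : BP, ∃ z, (z ∈ B₀ ∧ z ∈ p.map (algebraMap A B)) ∧ algebraMap B BP z = w * algebraMap B BP x by
      obtain ⟨z, hz, he⟩ := this 1
      rw [one_mul] at he
      exact hinjBP he ▸ hz
    generalize algebraMap B BP x = y at hxm ⊢
    induction hxm using Submodule.span_induction with
    | mem y hy =>
      obtain ⟨a, ha, rfl⟩ := hy
      intro w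
      obtain ⟨z, hz, c, hc, h⟩ := hgen w
      obtain ⟨a', ha', rfl⟩ := hpdiv a ha c hc
      refine ⟨z * algebraMap A B a', ⟨mul_mem hz (B₀.algebraMap_mem a'),
        Ideal.mul_mem_left _ _ (Ideal.mem_map_of_mem _ ha')⟩, ?_⟩
      rw [map_mul, ← h, ← IsScalarTower.algebraMap_apply, map_mul, mul_assoc]
    | zero => exact fun w => ⟨0, ⟨zero_mem _, zero_mem _⟩, by rw [map_zero, mul_zero]⟩
    | add y y' _ _ hy hy' =>
      intro w
      obtain ⟨z, hz, h⟩ := hy w
      obtain ⟨z', hz', h'⟩ := hy' w
      exact ⟨z + z', ⟨add_mem hz.1 hz'.1, add_mem hz.2 hz'.2⟩, by rw [map_add, h, h', mul_add]⟩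
    | smul c y _ hy =>
      intro w
      obtain ⟨z, hz, h⟩ := hy (w * c)
      exact ⟨z, hz, by rw [h, smul_eq_mul, mul_assoc]⟩
  have htop : B₀ = ⊤ := by
    refine eq_top_iff.2 fun x _ => ?_
    have hmap : B₀.map (Ideal.Quotient.mkₐ A P) = ⊤ := by
      refine eq_top_iff.2 (hS₁ ▸ Algebra.adjoin_le fun z hz => ?_)
      exact ⟨_, Algebra.subset_adjoin (Or.inl (Finset.mem_image_of_mem _ hz)),
        (Ideal.Quotient.mk_surjective z).choose_spec⟩
    obtain ⟨z, hz, he⟩ := hmap.ge (Algebra.mem_top (x := Ideal.Quotient.mkₐ A P x))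
    have := B₀.add_mem hz (hPmem (x - z) (Ideal.Quotient.eq.1 he.symm)).1
    rwa [add_sub_cancel] at this
  haveI : Algebra.FiniteType A B :=
    ⟨(S₁.image fun z => (Ideal.Quotient.mk_surjective z).choose) ∪ S₂.image b, by
      rw [← htop, Finset.coe_union]⟩
  have hP : P = p.map (algebraMap A B) :=
    le_antisymm (fun x hx => (hPmem x hx).2) Ideal.map_comap_le
  have hPmax : P ≤ IsLocalRing.maximalIdeal B := IsLocalRing.le_maximalIdeal (Ideal.IsPrime.ne_top ‹_›)
  haveI : IsLocalRing (B ⧸ P) := IsLocalRing.of_surjective' (Ideal.Quotient.mk P) Ideal.Quotient.mk_surjective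
  haveI : Algebra.FormallyUnramified A (B ⧸ P) := Algebra.FormallyUnramified.comp A (A ⧸ p) (B ⧸ P)
  haveI : IsLocalHom (algebraMap A (B ⧸ P)) := ⟨fun a ha => by
    by_contra hu
    obtain ⟨c, hc⟩ := isUnit_iff_exists_inv.1 ha
    obtain ⟨c, rfl⟩ := Ideal.Quotient.mk_surjective c
    change Ideal.Quotient.mk P (algebraMap A B a) * Ideal.Quotient.mk P c = 1 at hc
    rw [← map_mul, ← map_one (Ideal.Quotient.mk P), Ideal.Quotient.eq] at hc
    have hm : algebraMap A B a ∈ IsLocalRing.maximalIdeal B :=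
      (IsLocalRing.mem_maximalIdeal _).2 fun h => hu (isUnit_of_map_unit (algebraMap A B) a h)
    have h1 := sub_mem (Ideal.mul_mem_right c _ hm) (hPmax hc)
    rw [sub_sub_cancel] at h1
    exact (IsLocalRing.maximalIdeal.isMaximal B).ne_top ((Ideal.eq_top_iff_one _).2 h1)⟩
  have hm : (IsLocalRing.maximalIdeal A).map (algebraMap A B) = IsLocalRing.maximalIdeal B := by
    have h1 : (IsLocalRing.maximalIdeal A).map (algebraMap A (B ⧸ P)) = IsLocalRing.maximalIdeal (B ⧸ P) :=
      Algebra.FormallyUnramified.map_maximalIdeal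
    rw [IsScalarTower.algebraMap_eq A B (B ⧸ P), ← Ideal.map_map,
      ← IsLocalRing.map_maximalIdeal_of_surjective (Ideal.Quotient.mk P) Ideal.Quotient.mk_surjective] at h1
    have h2 := congrArg (Ideal.comap (Ideal.Quotient.mk P)) h1
    rw [Ideal.Quotient.algebraMap_eq, Ideal.comap_map_of_surjective _ Ideal.Quotient.mk_surjective,
      Ideal.comap_map_of_surjective _ Ideal.Quotient.mk_surjective, ← RingHom.ker_eq_comap_bot, Ideal.mk_ker,
      sup_eq_left.2 hPmax, sup_eq_left.2] at h2
    · exact h2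
    · rw [hP]
      exact Ideal.map_mono (IsLocalRing.le_maximalIdeal (Ideal.IsPrime.comap _).ne_top)
  haveI : Algebra.IsSeparable (IsLocalRing.ResidueField A) (IsLocalRing.ResidueField B) := by
    let g : B ⧸ P →ₐ[A] IsLocalRing.ResidueField B := Ideal.Quotient.factorₐ A hPmax
    haveI : Algebra.FormallyUnramified A (IsLocalRing.ResidueField B) :=
      Algebra.FormallyUnramified.of_surjective g (Ideal.Quotient.factor_surjective hPmax)
    haveI : Algebra.FormallyUnramified (IsLocalRing.ResidueField A) (IsLocalRing.ResidueField B) :=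
      Algebra.FormallyUnramified.of_restrictScalars A _ _
    haveI : Algebra.EssFiniteType A (IsLocalRing.ResidueField B) :=
      Algebra.EssFiniteType.comp A B (IsLocalRing.ResidueField B)
    haveI : Algebra.EssFiniteType (IsLocalRing.ResidueField A) (IsLocalRing.ResidueField B) :=
      Algebra.EssFiniteType.of_comp A _ _
    exact Algebra.FormallyUnramified.isSeparable _ _
  haveI : Algebra.FormallyUnramified A B := Algebra.FormallyUnramified.of_map_maximalIdeal hm
  haveI : Module.IsTorsionFree A B := Module.isTorsionFree_iff_algebraMap_injective.2 hinj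
  haveI : Module.Flat A B := Module.Flat.flat_iff_torsion_eq_bot_of_isBezout.2
    (Submodule.isTorsionFree_iff_torsion_eq_bot.1 inferInstance)
  haveI : Algebra.FinitePresentation A B :=
    Groth.Agent.UnramMisc.finitePresentation_of_flat_formallyUnramified (by
      rw [IsDomain.minimalPrimes_eq_singleton_bot]; exact Set.finite_singleton _)
  exact Algebra.Etale.of_formallyUnramified_of_flat

/-- Value groups of finite extensions are torsion over the base: a denominator can be taken from the base. -/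
theorem exists_dvd_algebraMap {K L Γ₀ Γ₁ : Type u} [Field K] [Field L] [Algebra K L] [FiniteDimensional K L]
    [LinearOrderedCommGroupWithZero Γ₀] [LinearOrderedCommGroupWithZero Γ₁]
    (vK : Valuation K Γ₀) (vL : Valuation L Γ₁) [vK.HasExtension vL]
    (P : Ideal vL.valuationSubring) [P.IsPrime] (s : vL.valuationSubring) (hs : s ∉ P) :
    ∃ r : vK.valuationSubring, r ∉ P.comap (algebraMap vK.valuationSubring vL.valuationSubring) ∧
      s ∣ algebraMap vK.valuationSubring vL.valuationSubring r := by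
  classical
  have hs0 : (s : L) ≠ 0 := fun h => hs (by rw [show s = 0 from Subtype.ext h]; exact P.zero_mem)
  let q := minpoly K (s : L)
  have hq : q ≠ 0 := minpoly.ne_zero (IsIntegral.of_finite K _)
  let f : ℕ → L := fun i => algebraMap K L (q.coeff i) * (s : L) ^ i
  have hsum : ∑ i ∈ q.support, f i = 0 := by
    have h := minpoly.aeval K (s : L)
    rw [Polynomial.aeval_def, Polynomial.eval₂_eq_sum] at h
    exact h
  have hf0 : ∀ i ∈ q.support, f i ≠ 0 := fun i hi =>
    mul_ne_zero ((map_ne_zero _).2 (Polynomial.mem_support_iff.1 hi)) (pow_ne_zero _ hs0)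
  obtain ⟨j, hj, hjmax⟩ := Finset.exists_max_image q.support (fun i => vL (f i)) (Polynomial.support_nonempty.2 hq)
  obtain ⟨i, hi, hij, heq⟩ : ∃ i ∈ q.support, i ≠ j ∧ vL (f i) = vL (f j) := by
    by_contra hne
    push_neg at hne
    have h := vL.map_sum_eq_of_lt (f := f) hj fun i hi => by
      rw [Finset.mem_sdiff, Finset.mem_singleton] at hi
      exact lt_of_le_of_ne (hjmax i hi.1) (hne i hi.1 hi.2)
    rw [hsum, map_zero] at h
    exact hf0 j hj ((map_eq_zero vL).1 h.symm)
  obtain ⟨a, c, ha, hc, hac, hlt⟩ : ∃ a c : ℕ, a ∈ q.support ∧ c ∈ q.support ∧ vL (f a) = vL (f c) ∧ a < c := by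
    rcases lt_or_gt_of_ne hij with h | h
    · exact ⟨i, j, hi, hj, heq, h⟩
    · exact ⟨j, i, hj, hi, heq.symm, h⟩
  let x : K := q.coeff a / q.coeff c
  have hx : vL (algebraMap K L x) = vL ((s : L) ^ (c - a)) := by
    have hc0 : algebraMap K L (q.coeff c) ≠ 0 := (map_ne_zero _).2 (Polynomial.mem_support_iff.1 hc)
    have e : f c = algebraMap K L (q.coeff c) * (s : L) ^ (c - a) * (s : L) ^ a := by
      show _ * _ = _
      rw [mul_assoc, ← pow_add, Nat.sub_add_cancel hlt.le]
    rw [e, show f a = algebraMap K L (q.coeff a) * (s : L) ^ a from rfl, map_mul vL _ ((s : L) ^ a),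
      map_mul vL _ ((s : L) ^ a)] at hac
    have := mul_right_cancel₀ ((Valuation.ne_zero_iff vL).2 (pow_ne_zero a hs0)) hac
    rw [map_div₀, map_div₀, this, map_mul vL, mul_div_cancel_left₀ _ ((Valuation.ne_zero_iff vL).2 hc0)]
  have hxA : x ∈ vK.valuationSubring := by
    refine (Valuation.HasExtension.val_map_le_one_iff vK vL x).1 ?_
    rw [hx, map_pow]
    exact pow_le_one' s.2 _
  let r : vK.valuationSubring := ⟨x, hxA⟩
  have hx0 : algebraMap K L x ≠ 0 := (Valuation.ne_zero_iff vL).1 (by
    rw [hx]; exact (Valuation.ne_zero_iff vL).2 (pow_ne_zero _ hs0))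
  have hu : algebraMap K L x / (s : L) ^ (c - a) ∈ vL.valuationSubring := by
    show vL _ ≤ 1
    rw [map_div₀, hx, div_self ((Valuation.ne_zero_iff vL).2 (pow_ne_zero _ hs0))]
  have hu' : (s : L) ^ (c - a) / algebraMap K L x ∈ vL.valuationSubring := by
    show vL _ ≤ 1
    rw [map_div₀, hx, div_self ((Valuation.ne_zero_iff vL).2 (pow_ne_zero _ hs0))]
  have e1 : algebraMap vK.valuationSubring vL.valuationSubring r = s ^ (c - a) * ⟨_, hu⟩ := Subtype.ext (by
    show algebraMap K L x = (s : L) ^ (c - a) * (algebraMap K L x / (s : L) ^ (c - a))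
    rw [mul_div_cancel₀ _ (pow_ne_zero _ hs0)])
  have e2 : s ^ (c - a) = algebraMap vK.valuationSubring vL.valuationSubring r * ⟨_, hu'⟩ := Subtype.ext (by
    show (s : L) ^ (c - a) = algebraMap K L x * ((s : L) ^ (c - a) / algebraMap K L x)
    rw [mul_div_cancel₀ _ hx0])
  refine ⟨r, fun hm => hs (‹P.IsPrime›.mem_of_pow_mem (c - a) ?_), ?_⟩
  · rw [e2]
    exact P.mul_mem_right _ hm
  · rw [e1]
    exact (dvd_pow_self s (by omega)).mul_right _

end Groth.Agent.ValComposed
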